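import Mathlib
import Cfsg.Agent.Helper71.BSW.Defs
import Cfsg.Agent.Helper76.FourCentralizerMain

/-!
# S3282 piece (K2a) for helper71: the case `|K| = 2` of abstract Brauer–Suzuki–Wall: `|G| = 12` or `60`
-/

set_option autoImplicit false

namespace Cfsg.Agent.Helper32.BSW

open Cfsg.Agent.Helper71.BSW

theorem card_alternatingGroup_five : Nat.card (alternatingGroup (Fin 5)) = 60 := by
  rw [Nat.card_eq_fintype_card]
  have h := two_mul_card_alternatingGroup (α := Fin 5)
  rw [Fintype.card_perm, Fintype.card_fin] at h
  have h5 : Nat.factorial 5 = 120 := by decide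
  omega

theorem k2_card {G : Type*} [Group G] [Finite G] {t s : G} {K : Subgroup G}
    (h : Hyp t s K) (A0 : FactsA0 t s K) (A1 : FactsA1 t s K) (hk : Nat.card K = 2) :
    Nat.card G = 12 ∨ Nat.card G = 60 := by
  classical
  haveI : Fact (Nat.Prime 2) := ⟨Nat.prime_two⟩
  set V := Subgroup.centralizer ({t} : Set G) with hVdef
  have hV4 : Nat.card V = 4 := by rw [A0.card_cent_t, hk]
  have htV : t ∈ V := by rw [hVdef, Subgroup.mem_centralizer_singleton_iff]
  have ht1 : t ≠ 1 := by
    intro h1
    have := h.ht
    rw [h1, orderOf_one] at this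
    exact absurd this (by norm_num)
  -- every element of `V` squares to one
  have hVe : ∀ c ∈ V, c ^ 2 = 1 := by
    intro c hc
    rcases A0.mem_cent_t_cases c hc with hcK | ⟨x, hx, rfl⟩
    · have := pow_card_eq_one' (G := K) (x := ⟨c, hcK⟩)
      rw [hk] at this
      exact congrArg Subtype.val this
    · have := A0.orderOf_s_mul x hx
      rw [← this]
      exact pow_orderOf_eq_one _
  have hord : ∀ c ∈ V, c ≠ 1 → orderOf c = 2 := by
    intro c hc hc1
    exact orderOf_eq_prime (hVe c hc) hc1
  -- `V` is abelian
  have hVcomm : ∀ u ∈ V, ∀ v ∈ V, u * v = v * u := by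
    intro u hu v hv
    have hsq : ∀ c ∈ V, c * c = 1 := fun c hc => by rw [← pow_two]; exact hVe c hc
    have h1 := inv_eq_of_mul_eq_one_right (hsq u hu)
    have h2 := inv_eq_of_mul_eq_one_right (hsq v hv)
    have h3 := inv_eq_of_mul_eq_one_right (hsq (u * v) (V.mul_mem hu hv))
    calc u * v = (u * v)⁻¹ := h3.symm
      _ = v⁻¹ * u⁻¹ := mul_inv_rev _ _
      _ = v * u := by rw [h1, h2]
  -- arithmetic of the order
  have hdvd : 4 ∣ Nat.card G := hV4 ▸ Subgroup.card_subgroup_dvd_card V
  obtain ⟨m, hm⟩ := hdvd
  have hcop : (Nat.card G / (2 * Nat.card K)).Coprime (2 * Nat.card K) := A1.coprime_index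
  rw [hk, hm] at hcop
  have hm4 : Nat.Coprime m 4 := by simpa using hcop
  have hmodd : Nat.Coprime m 2 := Nat.Coprime.coprime_dvd_right (by norm_num : 2 ∣ 4) hm4
  -- `V` is a Sylow `2`-subgroup
  have hVp : IsPGroup 2 V := IsPGroup.of_card (n := 2) (by rw [hV4]; norm_num)
  obtain ⟨S, hS⟩ := hVp.exists_le_sylow
  have hSV : (S : Subgroup G) = V := by
    obtain ⟨k, hkS⟩ := (IsPGroup.iff_card.1 S.isPGroup')
    have h1 : Nat.card (S : Subgroup G) ∣ 4 * m := hm ▸ Subgroup.card_subgroup_dvd_card _
    have h2 : Nat.Coprime (Nat.card (S : Subgroup G)) m := by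
      rw [hkS]
      exact (Nat.Coprime.pow_left k hmodd.symm)
    have h3 : Nat.card (S : Subgroup G) ∣ 4 := Nat.Coprime.dvd_of_dvd_mul_right h2 h1
    have h4 : Nat.card (S : Subgroup G) ≤ Nat.card V := by
      rw [hV4]; exact Nat.le_of_dvd (by norm_num) h3
    exact (Subgroup.eq_of_le_of_card_ge hS h4).symm
  by_cases hnorm : V.Normal
  · -- Case 1
    left
    have horb : MulAction.orbit (ConjAct G) t = (V : Set G) \ {1} := by
      ext c
      rw [ConjAct.mem_orbit_conjAct]
      constructor
      · intro hc
        obtain ⟨g, hg⟩ := isConj_iff.1 hc.symm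
        refine ⟨?_, ?_⟩
        · rw [← hg]
          exact hnorm.conj_mem t htV g
        · intro hc1
          rw [Set.mem_singleton_iff] at hc1
          rw [hc1] at hg
          apply ht1
          have : g * t * g⁻¹ = g * 1 * g⁻¹ := by rw [hg]; group
          exact mul_left_cancel (mul_right_cancel this)
      · rintro ⟨hcV, hc1⟩
        exact h.hconj c t (hord c hcV hc1) h.ht
    have hidx : V.index = 3 := by
      have hidx0 : (Subgroup.comap (ConjAct.toConjAct (G := G)).toMonoidHom
          (MulAction.stabilizer (ConjAct G) t)).index =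
          (MulAction.stabilizer (ConjAct G) t).index :=
        Subgroup.index_comap_of_surjective _ (ConjAct.toConjAct (G := G)).surjective
      have e1 : V = Subgroup.comap (ConjAct.toConjAct (G := G)).toMonoidHom
          (MulAction.stabilizer (ConjAct G) t) := Subgroup.centralizer_eq_comap_stabilizer t
      have e2 : V.index = (Subgroup.comap (ConjAct.toConjAct (G := G)).toMonoidHom
          (MulAction.stabilizer (ConjAct G) t)).index := congrArg Subgroup.index e1
      rw [e2, hidx0,
        MulAction.index_stabilizer, horb, Set.ncard_diff_singleton_of_mem (V.one_mem)]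
      have : (V : Set G).ncard = 4 := by
        rw [← hV4]; rfl
      rw [this]
    have := Subgroup.index_mul_card V
    rw [hidx, hV4] at this
    omega
  · -- Case 2
    right
    have hts : t * s = s * t := by
      have := h.hsH
      rw [Subgroup.mem_centralizer_singleton_iff] at this
      exact this.symm
    have hsV : s ∈ V := h.hsH
    have hnc : ¬ Cfsg.HasNormalPComplement 2 G := by
      rintro ⟨P, N, hN, hcompl⟩
      have hcard := hcompl.card_mul_card
      have hP4 : Nat.card (P : Subgroup G) = 4 := by
        rw [Sylow.card_eq_multiplicity, ← Sylow.card_eq_multiplicity S, hSV, hV4]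
      rw [hP4, hm] at hcard
      have hNm : Nat.card N = m := by omega
      -- the quotient is abelian of order 4
      have hidx : N.index = 4 := by
        have := Subgroup.index_mul_card N
        rw [hNm, hm] at this
        have hm0 : 0 < m := by
          rcases Nat.eq_zero_or_pos m with h0 | h0
          · rw [h0] at hm; simp at hm; exact absurd hm Nat.card_pos.ne'
          · exact h0
        nlinarith
      have hq4 : Nat.card (G ⧸ N) = 2 ^ 2 := by
        rw [← Subgroup.index_eq_card, hidx]; norm_num
      have hqcomm : ∀ a b : G ⧸ N, a * b = b * a :=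
        (IsPGroup.isMulCommutative_of_card_eq_prime_sq hq4).is_comm.comm
      obtain ⟨g, hg⟩ := isConj_iff.1 (h.hconj t s h.ht h.hs)
      have hmk : (QuotientGroup.mk t : G ⧸ N) = QuotientGroup.mk s := by
        rw [← hg]
        simp only [QuotientGroup.mk_mul, QuotientGroup.mk_inv]
        rw [hqcomm (QuotientGroup.mk g) (QuotientGroup.mk t), mul_assoc, mul_inv_cancel, mul_one]
      have hmem : t⁻¹ * s ∈ N := QuotientGroup.eq.1 hmk
      have hne1 : t⁻¹ * s ≠ 1 := by
        intro h1
        have : t = s := inv_mul_eq_one.1 h1
        exact h.hsK (this ▸ h.htK)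
      have ho : orderOf (t⁻¹ * s) = 2 :=
        hord _ (V.mul_mem (V.inv_mem htV) hsV) hne1
      have h2N : 2 ∣ Nat.card N := by
        have := orderOf_dvd_natCard (⟨t⁻¹ * s, hmem⟩ : N)
        rwa [Subgroup.orderOf_mk, ho] at this
      rw [hNm] at h2N
      have := Nat.Coprime.eq_one_of_dvd hmodd.symm h2N
      omega
    have hne : ∀ E : Subgroup G, E.Normal → Cfsg.IsElementaryAbelian 2 E →
        Nat.card ↥E ≠ 2 ∧ Nat.card ↥E ≠ 4 := by
      intro E hEn hEe
      -- a normal elementary abelian `2`-subgroup `≠ 1` contains `t`
      have htE : E ≠ ⊥ → t ∈ E := by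
        intro hEb
        obtain ⟨z, hz1⟩ := (Subgroup.ne_bot_iff_exists_ne_one.1 hEb)
        have hz2 : orderOf (z : G) = 2 := by
          apply orderOf_eq_prime (hEe.2 z z.2)
          intro hz
          apply hz1
          exact Subtype.ext hz
        obtain ⟨g, hg⟩ := isConj_iff.1 (h.hconj (z : G) t hz2 h.ht)
        rw [← hg]
        exact hEn.conj_mem z z.2 g
      have hEcomm : ∀ a ∈ E, ∀ b ∈ E, a * b = b * a := by
        intro a ha b hb
        have := hEe.1.is_comm.comm (⟨a, ha⟩ : E) ⟨b, hb⟩
        exact congrArg Subtype.val this
      constructor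
      · intro h2
        apply hnorm
        have hEb : E ≠ ⊥ := by
          intro hb
          rw [hb, Subgroup.card_bot] at h2
          omega
        have htE' := htE hEb
        -- `E = {1, t}`, so `t` is central
        have hE : ∀ c ∈ E, c = 1 ∨ c = t := by
          intro c hc
          by_contra hcon
          push Not at hcon
          have : 3 ≤ Nat.card E := by
            let _ : Fintype E := Fintype.ofFinite E
            have h3 : ({⟨1, E.one_mem⟩, ⟨t, htE'⟩, ⟨c, hc⟩} : Finset E).card = 3 := by
              rw [Finset.card_insert_of_notMem, Finset.card_insert_of_notMem,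
                Finset.card_singleton]
              · simp only [Finset.mem_singleton, Subtype.mk.injEq]
                exact fun h => hcon.2 h.symm
              · simp only [Finset.mem_insert, Finset.mem_singleton, Subtype.mk.injEq]
                rintro (h | h)
                · exact ht1 h.symm
                · exact hcon.1 h.symm
            rw [← h3, Nat.card_eq_fintype_card]
            exact Finset.card_le_univ _
          omega
        have hcent : ∀ g : G, g * t * g⁻¹ = t := by
          intro g
          rcases hE _ (hEn.conj_mem t htE' g) with h1 | h1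
          · exfalso
            apply ht1
            have : g * t * g⁻¹ = g * 1 * g⁻¹ := by rw [h1]; group
            exact mul_left_cancel (mul_right_cancel this)
          · exact h1
        have hVtop : V = ⊤ := by
          rw [eq_top_iff]
          intro g _
          rw [hVdef, Subgroup.mem_centralizer_singleton_iff]
          have := hcent g
          calc g * t = g * t * g⁻¹ * g := by group
            _ = t * g := by rw [this]
        rw [hVtop]
        infer_instance
      · intro h4
        apply hnorm
        have hEb : E ≠ ⊥ := by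
          intro hb
          rw [hb, Subgroup.card_bot] at h4
          omega
        have htE' := htE hEb
        have hEV : E ≤ V := by
          intro c hc
          rw [hVdef, Subgroup.mem_centralizer_singleton_iff]
          exact (hEcomm c hc t htE')
        have : E = V := Subgroup.eq_of_le_of_card_ge hEV (by rw [h4, hV4])
        rw [← this]
        exact hEn
    obtain ⟨e⟩ := Cfsg.Agent.Helper76.alternating_five_of_four_centralizer t h.ht hV4 hVe S
      (le_of_eq hSV) h.hconj hnc hne
    rw [Nat.card_congr e.toEquiv, card_alternatingGroup_five]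

end Cfsg.Agent.Helper32.BSW
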